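import Mathlib.RingTheory.Discriminant
import Mathlib.RingTheory.OrderOfVanishing.Basic
import Mathlib.LinearAlgebra.FreeModule.Finite.Quotient
import Mathlib.RingTheory.PowerSeries.Inverse

/-!
Discriminant of a subalgebra of full rank and the length of the quotient.
-/

open Module Matrix

namespace Groth.L14.Crimp

variable {R : Type*} [CommRing R] [IsDomain R] [IsPrincipalIdealRing R] {St : Type*} [CommRing St] [Algebra R St]
  {ι : Type*} [Fintype ι] [DecidableEq ι]

omit [IsDomain R] [IsPrincipalIdealRing R] in
theorem associated_discr {B : Type*} [CommRing B] [Algebra R B] (b b' : Basis ι R B) :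
    Associated (Algebra.discr R ⇑b) (Algebra.discr R ⇑b') := by
  have hu : IsUnit (b'.toMatrix ⇑b).det := by
    have := b'.invertibleToMatrix b
    exact (Matrix.isUnit_iff_isUnit_det _).mp (isUnit_of_invertible _)
  have : Algebra.discr R ⇑b = (b'.toMatrix ⇑b).det ^ 2 * Algebra.discr R ⇑b' := by
    rw [← Algebra.discr_of_matrix_vecMul, b'.toMatrix_map_vecMul]
  rw [this]
  exact (associated_isUnit_mul_left_iff (hu.pow 2)).mpr (Associated.refl _)

theorem exists_index (S : Subalgebra R St) (bt : Basis ι R St) (bS : Basis ι R S) :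
    ∃ δ : R, δ ≠ 0 ∧ Module.length R (St ⧸ Subalgebra.toSubmodule S) = Ring.ord R δ ∧
      (∀ q : St ⧸ Subalgebra.toSubmodule S, δ • q = 0) ∧
      Associated (Algebra.discr R ⇑bS) (δ ^ 2 * Algebra.discr R ⇑bt) := by
  set N := Subalgebra.toSubmodule S with hN
  let bN : Basis ι R N := bS
  have h : finrank R N = finrank R St := by rw [finrank_eq_card_basis bN, finrank_eq_card_basis bt]
  set a := N.smithNormalFormCoeffs bt h with ha
  set b' := N.smithNormalFormTopBasis bt h with hb'
  set ab := N.smithNormalFormBotBasis bt h with hab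
  have hsnf : ∀ i, (ab i : St) = a i • b' i := N.smithNormalFormBotBasis_def bt h
  have ha0 : ∀ i, a i ≠ 0 := by
    intro i e
    apply ab.ne_zero i
    exact Subtype.ext (by rw [hsnf, e, zero_smul]; rfl)
  refine ⟨∏ i, a i, Finset.prod_ne_zero_iff.mpr fun i _ => ha0 i, ?_, ?_, ?_⟩
  · rw [(N.quotientEquivPiSpan bt h).length_eq, Module.length_pi_of_fintype]
    have : ∀ s : Finset ι, Ring.ord R (∏ i ∈ s, a i) = ∑ i ∈ s, Ring.ord R (a i) := by
      intro s
      induction s using Finset.induction_on with
      | empty => simp [Ring.ord_one]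
      | insert i s hi ih =>
        rw [Finset.prod_insert hi, Finset.sum_insert hi,
          Ring.ord_mul R (mem_nonZeroDivisors_of_ne_zero (Finset.prod_ne_zero_iff.mpr fun j _ => ha0 j)), ih]
    rw [this]
    rfl
  · intro q
    obtain ⟨x, rfl⟩ := Submodule.Quotient.mk_surjective _ q
    rw [← Submodule.Quotient.mk_smul, Submodule.Quotient.mk_eq_zero, ← b'.sum_repr x, Finset.smul_sum]
    refine N.sum_mem fun i _ => ?_
    rw [← Finset.prod_erase_mul _ _ (Finset.mem_univ i), smul_comm (_ * a i), mul_smul, ← hsnf]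
    exact N.smul_mem _ (N.smul_mem _ (ab i).2)
  · -- traces in `S` agree with traces in `St`
    let abS : Basis ι R S := ab
    have htr : ∀ x : S, Algebra.trace R S x = Algebra.trace R St (x : St) := by
      intro x
      rw [Algebra.trace_eq_matrix_trace abS, Algebra.trace_eq_matrix_trace b', Matrix.trace, Matrix.trace]
      refine Finset.sum_congr rfl fun i _ => ?_
      simp only [Matrix.diag_apply, Algebra.leftMulMatrix_eq_repr_mul]
      refine mul_left_cancel₀ (ha0 i) ?_
      have e : ((x * abS i : S) : St) = a i • ((x : St) * b' i) := by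
        show (x : St) * (ab i : St) = _
        rw [hsnf, mul_smul_comm]
      have e2 : ((x * abS i : S) : St) = ∑ j, (abS.repr (x * abS i) j * a j) • b' j := by
        conv_lhs => rw [← abS.sum_repr (x * abS i)]
        simp only [AddSubmonoidClass.coe_finsetSum, SetLike.val_smul]
        refine Finset.sum_congr rfl fun j _ => ?_
        rw [mul_smul, ← hsnf]
      have := congrArg (fun v => b'.repr v i) (e.symm.trans e2)
      simp [Finsupp.single_apply] at this
      linear_combination -this
    have hdiag : Algebra.discr R ⇑abS = (∏ i, a i) ^ 2 * Algebra.discr R ⇑b' := by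
      rw [Algebra.discr_def, Algebra.discr_def, ← Matrix.det_diagonal, pow_two, mul_assoc,
        mul_comm (Matrix.det (Matrix.diagonal a)) (Algebra.traceMatrix R ⇑b').det, ← mul_assoc, ← Matrix.det_mul,
        ← Matrix.det_mul]
      congr 1
      ext i j
      rw [Matrix.mul_diagonal, Matrix.diagonal_mul, Algebra.traceMatrix_apply, Algebra.traceMatrix_apply,
        Algebra.traceForm_apply, Algebra.traceForm_apply, htr]
      show Algebra.trace R St ((ab i : St) * (ab j : St)) = _
      rw [hsnf, hsnf, smul_mul_smul_comm, map_smul, smul_eq_mul]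
      ring
    refine (associated_discr bS abS).trans ?_
    rw [hdiag]
    exact (associated_discr b' bt).mul_left _

theorem two_length_add {k : Type*} [Field k] {St : Type*} [CommRing St] [Algebra (PowerSeries k) St] (d a b : ℕ)
    (bt : Basis (Fin d) (PowerSeries k) St)
    (ha : Ideal.span {Algebra.discr (PowerSeries k) ⇑bt} = Ideal.span {(PowerSeries.X : PowerSeries k) ^ a})
    (S : Subalgebra (PowerSeries k) St) (bS : Basis (Fin d) (PowerSeries k) S)
    (hb : Ideal.span {Algebra.discr (PowerSeries k) ⇑bS} = Ideal.span {(PowerSeries.X : PowerSeries k) ^ b}) :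
    (∀ q : St ⧸ Subalgebra.toSubmodule S, ((PowerSeries.X : PowerSeries k) ^ b) • q = 0) ∧
    2 * Module.length (PowerSeries k) (St ⧸ Subalgebra.toSubmodule S) + (a : ℕ∞) = (b : ℕ∞) := by
  obtain ⟨δ, hδ, hlen, hann, hassoc⟩ := exists_index S bt bS
  rw [Ideal.span_singleton_eq_span_singleton] at ha hb
  have hX0 : (PowerSeries.X : PowerSeries k) ≠ 0 := PowerSeries.X_ne_zero
  have hord : ∀ n : ℕ, Ring.ord (PowerSeries k) (PowerSeries.X ^ n) = n := fun n => by
    rw [Ring.ord_pow (R := PowerSeries k) (mem_nonZeroDivisors_of_ne_zero hX0),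
      Ring.ord_of_irreducible PowerSeries.X_irreducible]
    simp
  have hd : Associated ((PowerSeries.X : PowerSeries k) ^ b) (δ ^ 2 * PowerSeries.X ^ a) :=
    hb.symm.trans (hassoc.trans (ha.mul_left _))
  refine ⟨fun q => ?_, ?_⟩
  · obtain ⟨c, hc⟩ := (dvd_pow_self δ two_ne_zero).trans ((dvd_mul_right _ _).trans hd.symm.dvd)
    rw [hc, mul_comm, mul_smul, hann, smul_zero]
  · have := Ring.ord_eq_of_associated (R := PowerSeries k) hd
    rw [hord, Ring.ord_mul (R := PowerSeries k) (mem_nonZeroDivisors_of_ne_zero (pow_ne_zero _ hX0)),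
      Ring.ord_pow (R := PowerSeries k) (mem_nonZeroDivisors_of_ne_zero hδ), hord, ← hlen] at this
    rw [this]
    simp [two_mul, two_nsmul]

end Groth.L14.Crimp
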