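import Mathlib.RingTheory.PowerSeries.Inverse
import Mathlib.RingTheory.PowerSeries.Order
import Mathlib.RingTheory.Discriminant
import Mathlib.RingTheory.AdjoinRoot
import Mathlib.RingTheory.Trace.Basic
import Mathlib.RingTheory.DiscreteValuationRing.Basic
import Mathlib.Tactic

/-!
Quadratic orders in `R ⊕ R w`, `w ^ 2 = c`, over `R = k⟦t⟧`.
-/

set_option autoImplicit false
universe u v

open Polynomial

namespace Groth.L14.CrimpDouble

variable {k : Type u} [Field k] {A : Type v} [CommRing A] [Algebra (PowerSeries k) A]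

/-- the square root of `c` presents a rank two order -/
structure Quad (c : PowerSeries k) (w : A) : Prop where
  sq : w * w = c • (1 : A)
  gen : ∀ x : A, ∃ a g : PowerSeries k, a • (1 : A) + g • w = x
  indep : ∀ a g : PowerSeries k, a • (1 : A) + g • w = 0 → a = 0 ∧ g = 0

variable {c : PowerSeries k} {w : A} {S : Subalgebra (PowerSeries k) A}

/-- the crimp condition -/
def IsShape (S : Subalgebra (PowerSeries k) A) (n : ℕ) : Prop :=
  Subalgebra.toSubmodule S = Submodule.span (PowerSeries k) {(1 : A)} ⊔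
    Ideal.span {(PowerSeries.X : PowerSeries k) ^ n} • (⊤ : Submodule (PowerSeries k) A)

theorem mem_shape_iff (h : Quad c w) (n : ℕ) (x : A) :
    x ∈ Submodule.span (PowerSeries k) {(1 : A)} ⊔
        Ideal.span {(PowerSeries.X : PowerSeries k) ^ n} • (⊤ : Submodule (PowerSeries k) A) ↔
      ∃ a g : PowerSeries k, a • (1 : A) + g • ((PowerSeries.X : PowerSeries k) ^ n • w) = x := by
  rw [Submodule.ideal_span_singleton_smul, Submodule.mem_sup]
  simp only [Submodule.mem_span_singleton, Submodule.mem_smul_pointwise_iff_exists, Submodule.mem_top, true_and]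
  constructor
  · rintro ⟨_, ⟨a, rfl⟩, _, ⟨z, rfl⟩, rfl⟩
    obtain ⟨a', g, rfl⟩ := h.gen z
    refine ⟨a + PowerSeries.X ^ n * a', g, ?_⟩
    rw [add_smul, mul_smul, smul_add, smul_comm g]
    abel
  · rintro ⟨a, g, rfl⟩
    exact ⟨_, ⟨a, rfl⟩, _, ⟨g • w, rfl⟩, by rw [smul_comm g]⟩

theorem exists_shape (h : Quad c w) (bS : Module.Basis (Fin 2) (PowerSeries k) S) :
    ∃ n : ℕ, IsShape S n := by
  classical
  let J : Ideal (PowerSeries k) := (Subalgebra.toSubmodule S).comap (LinearMap.toSpanSingleton (PowerSeries k) A w)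
  have hJ : ∀ g, g ∈ J ↔ g • w ∈ S := fun g => Iff.rfl
  have hsplit : ∀ a g : PowerSeries k, a • (1 : A) + g • w ∈ S → g ∈ J := by
    intro a g hm
    rw [hJ]
    have := S.sub_mem hm (S.smul_mem S.one_mem a)
    rwa [add_sub_cancel_left] at this
  have hJ0 : J ≠ ⊥ := by
    intro h0
    have hscal : ∀ s : S, ∃ a : PowerSeries k, a • (1 : A) = (s : A) := by
      intro s
      obtain ⟨a, g, hag⟩ := h.gen (s : A)
      have := hsplit a g (hag ▸ s.2)
      rw [h0, Ideal.mem_bot] at this
      exact ⟨a, by rw [← hag, this, zero_smul, add_zero]⟩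
    obtain ⟨a₀, ha₀⟩ := hscal (bS 0)
    obtain ⟨a₁, ha₁⟩ := hscal (bS 1)
    have hli := Fintype.linearIndependent_iff.1 bS.linearIndependent ![a₁, -a₀] (by
      apply Subtype.val_injective
      simp only [Fin.sum_univ_two, Matrix.cons_val_zero, Matrix.cons_val_one, Matrix.cons_val_fin_one]
      rw [Subalgebra.coe_add, Subalgebra.coe_smul, Subalgebra.coe_smul, Subalgebra.coe_zero, ← ha₀, ← ha₁,
        smul_smul, smul_smul, ← add_smul, neg_mul, mul_comm a₁, add_neg_cancel, zero_smul])
    have h0' : a₀ = 0 := by simpa using hli 1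
    exact bS.ne_zero 0 (Subtype.val_injective (by simp [← ha₀, h0']))
  obtain ⟨n, hn⟩ := IsDiscreteValuationRing.ideal_eq_span_pow_irreducible hJ0 PowerSeries.X_irreducible
  refine ⟨n, SetLike.ext fun x => ?_⟩
  rw [Subalgebra.mem_toSubmodule, mem_shape_iff h]
  constructor
  · intro hx
    obtain ⟨a, g, rfl⟩ := h.gen x
    have := hsplit a g hx
    rw [hn, Ideal.mem_span_singleton] at this
    obtain ⟨q, rfl⟩ := this
    exact ⟨a, q, by rw [smul_smul, mul_comm q]⟩
  · rintro ⟨a, g, rfl⟩
    refine S.add_mem (S.smul_mem S.one_mem a) (S.smul_mem ?_ g)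
    exact (hJ _).1 (hn ▸ Ideal.mem_span_singleton_self _)

section shape

variable {n : ℕ} (h : Quad c w) (hS : IsShape S n)
include h hS

theorem mem_iff (x : A) : x ∈ S ↔
    ∃ a g : PowerSeries k, a • (1 : A) + g • ((PowerSeries.X : PowerSeries k) ^ n • w) = x := by
  rw [← Subalgebra.mem_toSubmodule, hS, mem_shape_iff h]

theorem gen_mem : (PowerSeries.X : PowerSeries k) ^ n • w ∈ S :=
  (mem_iff h hS _).2 ⟨0, 1, by simp⟩

theorem indep' (a g : PowerSeries k) (e : a • (1 : A) + g • ((PowerSeries.X : PowerSeries k) ^ n • w) = 0) :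
    a = 0 ∧ g = 0 := by
  rw [smul_smul] at e
  obtain ⟨ha, hg⟩ := h.indep _ _ e
  exact ⟨ha, (mul_eq_zero.1 hg).resolve_right (pow_ne_zero _ PowerSeries.X_ne_zero)⟩

theorem exists_basis : ∃ b : Module.Basis (Fin 2) (PowerSeries k) S,
    Algebra.discr (PowerSeries k) ⇑b = 4 * ((PowerSeries.X : PowerSeries k) ^ (2 * n) * c) := by
  classical
  let y : S := ⟨_, gen_mem h hS⟩
  have hli : LinearIndependent (PowerSeries k) ![(1 : S), y] := by
    rw [LinearIndependent.pair_iff]
    intro a g e
    exact indep' h hS a g (congrArg Subtype.val e)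
  have hsp : ⊤ ≤ Submodule.span (PowerSeries k) (Set.range ![(1 : S), y]) := by
    intro s _
    obtain ⟨a, g, e⟩ := (mem_iff h hS _).1 s.2
    rw [Matrix.range_cons_cons_empty, Submodule.mem_span_pair]
    exact ⟨a, g, Subtype.val_injective e⟩
  let b := Module.Basis.mk hli hsp
  have hb0 : b 0 = 1 := by simp [b]
  have hb1 : b 1 = y := by simp [b]
  have hyy : y * y = ((PowerSeries.X : PowerSeries k) ^ (2 * n) * c) • (1 : S) := Subtype.val_injective (by
    show ((PowerSeries.X : PowerSeries k) ^ n • w) * ((PowerSeries.X : PowerSeries k) ^ n • w) = _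
    rw [smul_mul_smul_comm, h.sq, smul_smul, ← pow_add, ← two_mul]
    rfl)
  refine ⟨b, ?_⟩
  have htr1 : Algebra.trace (PowerSeries k) S 1 = 2 := by
    rw [← map_one (algebraMap (PowerSeries k) S), Algebra.trace_algebraMap_of_basis b]
    simp
  have htry : Algebra.trace (PowerSeries k) S y = 0 := by
    rw [Algebra.trace_eq_matrix_trace b, Matrix.trace, Fin.sum_univ_two, Matrix.diag_apply, Matrix.diag_apply,
      Algebra.leftMulMatrix_eq_repr_mul, Algebra.leftMulMatrix_eq_repr_mul, hb0, hb1, mul_one, hyy, ← hb0, ← hb1,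
      map_smul, b.repr_self, b.repr_self]
    simp
  rw [Algebra.discr_def, Matrix.det_fin_two]
  simp only [Algebra.traceMatrix_apply, Algebra.traceForm_apply, hb0, hb1, mul_one, one_mul, htr1, htry, hyy,
    map_smul, smul_eq_mul]
  ring

theorem nonempty_equiv (c' : PowerSeries k) (hc' : c' = (PowerSeries.X : PowerSeries k) ^ (2 * n) * c) :
    Nonempty (S ≃ₐ[PowerSeries k] AdjoinRoot (Polynomial.X ^ 2 - Polynomial.C c')) := by
  let y : S := ⟨_, gen_mem h hS⟩
  have hy : Polynomial.aeval y (Polynomial.X ^ 2 - Polynomial.C c') = 0 := by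
    apply Subtype.val_injective
    simp only [map_sub, map_pow, Polynomial.aeval_X, Polynomial.aeval_C]
    show ((PowerSeries.X : PowerSeries k) ^ n • w) ^ 2 - algebraMap (PowerSeries k) A c' = (0 : A)
    rw [sq, smul_mul_smul_comm, h.sq, smul_smul, ← pow_add, ← two_mul, hc', Algebra.algebraMap_eq_smul_one, sub_self]
  let ψ : AdjoinRoot (Polynomial.X ^ 2 - Polynomial.C c') →ₐ[PowerSeries k] S :=
    AdjoinRoot.liftAlgHom _ (Algebra.ofId _ _) y hy
  refine ⟨(AlgEquiv.ofBijective ψ ⟨?_, ?_⟩).symm⟩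
  · rw [injective_iff_map_eq_zero]
    intro z hz
    obtain ⟨q, rfl⟩ := AdjoinRoot.mk_surjective z
    have hm : (Polynomial.X ^ 2 - Polynomial.C c').Monic := Polynomial.monic_X_pow_sub_C _ two_ne_zero
    have hmk : AdjoinRoot.mk (Polynomial.X ^ 2 - Polynomial.C c') q =
        AdjoinRoot.mk (Polynomial.X ^ 2 - Polynomial.C c') (q %ₘ (Polynomial.X ^ 2 - Polynomial.C c')) := by
      conv_lhs => rw [← Polynomial.modByMonic_add_div q (Polynomial.X ^ 2 - Polynomial.C c'), map_add, map_mul,
        AdjoinRoot.mk_self, zero_mul, add_zero]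
    have hd : (q %ₘ (Polynomial.X ^ 2 - Polynomial.C c')).natDegree ≤ 1 := by
      have h1 := Polynomial.natDegree_modByMonic_lt q hm (fun h => by
        have := congrArg Polynomial.natDegree h
        rw [Polynomial.natDegree_X_pow_sub_C, Polynomial.natDegree_one] at this
        omega)
      rw [Polynomial.natDegree_X_pow_sub_C] at h1
      omega
    rw [hmk, Polynomial.eq_X_add_C_of_natDegree_le_one hd] at hz ⊢
    simp only [ψ, AdjoinRoot.liftAlgHom_mk, Algebra.toRingHom_ofId, ← Polynomial.aeval_def, map_add, map_mul, Polynomial.aeval_C, Polynomial.aeval_X] at hz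
    have := congrArg Subtype.val hz
    change algebraMap (PowerSeries k) A _ * ((PowerSeries.X : PowerSeries k) ^ n • w) + algebraMap (PowerSeries k) A _ = 0 at this
    rw [← Algebra.smul_def, Algebra.algebraMap_eq_smul_one, add_comm] at this
    obtain ⟨h1, h2⟩ := indep' h hS _ _ this
    rw [h1, h2]
    simp
  · intro s
    obtain ⟨a, g, e⟩ := (mem_iff h hS _).1 s.2
    refine ⟨algebraMap _ _ a + g • AdjoinRoot.root _, Subtype.val_injective ?_⟩
    simp only [ψ, map_add, map_smul, AlgHom.commutes, AdjoinRoot.liftAlgHom_root]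
    rw [Subalgebra.coe_add, Subalgebra.coe_algebraMap, Subalgebra.coe_smul, Algebra.algebraMap_eq_smul_one]
    exact e

end shape

theorem span_discr_eq (b b' : Module.Basis (Fin 2) (PowerSeries k) S) :
    Ideal.span {Algebra.discr (PowerSeries k) ⇑b} = Ideal.span {Algebra.discr (PowerSeries k) ⇑b'} := by
  classical
  rw [Ideal.span_singleton_eq_span_singleton]
  have h : Algebra.discr (PowerSeries k) ⇑b' = (b.toMatrix ⇑b').det ^ 2 * Algebra.discr (PowerSeries k) ⇑b := by
    conv_lhs => rw [← b.toMatrix_map_vecMul (⇑b')]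
    rw [Algebra.discr_of_matrix_vecMul]
  rw [h]
  have hu : IsUnit (b.toMatrix ⇑b').det := by
    haveI := b.invertibleToMatrix b'
    exact Matrix.isUnit_det_of_invertible _
  exact (associated_unit_mul_left _ _ (hu.pow 2)).symm

/-- classification of crimps of a double cover with square root `c` of order `e` -/
theorem main [CharZero k] (h : Quad c w) (e : ℕ) (hc : c = (PowerSeries.X : PowerSeries k) ^ e) (b : ℕ) :
    ((∃ bS : Module.Basis (Fin 2) (PowerSeries k) S,
      Ideal.span {Algebra.discr (PowerSeries k) ⇑bS} = Ideal.span {(PowerSeries.X : PowerSeries k) ^ b}) ↔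
    ∃ n : ℕ, b = 2 * n + e ∧ IsShape S n) ∧
    (∀ n : ℕ, IsShape S n →
      Nonempty (S ≃ₐ[PowerSeries k] AdjoinRoot (Polynomial.X ^ 2 - Polynomial.C ((PowerSeries.X : PowerSeries k) ^ (2 * n + e))))) := by
  have h4 : IsUnit (4 : PowerSeries k) := by
    rw [PowerSeries.isUnit_iff_constantCoeff, map_ofNat]
    exact isUnit_iff_ne_zero.2 (by norm_num)
  have hd : ∀ n, IsShape S n → ∃ bS : Module.Basis (Fin 2) (PowerSeries k) S,
      Ideal.span {Algebra.discr (PowerSeries k) ⇑bS} = Ideal.span {(PowerSeries.X : PowerSeries k) ^ (2 * n + e)} := by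
    intro n hS
    obtain ⟨bS, hbS⟩ := exists_basis h hS
    exact ⟨bS, by rw [hbS, hc, ← pow_add, Ideal.span_singleton_mul_left_unit h4]⟩
  refine ⟨⟨fun ⟨bS, hbS⟩ => ?_, fun ⟨n, hb, hS⟩ => hb ▸ hd n hS⟩,
    fun n hS => nonempty_equiv h hS _ (by rw [hc, pow_add])⟩
  obtain ⟨n, hS⟩ := exists_shape h bS
  obtain ⟨b', hb'⟩ := hd n hS
  refine ⟨n, ?_, hS⟩
  rw [span_discr_eq bS b', hb', Ideal.span_singleton_eq_span_singleton] at hbS
  have h1 := (pow_dvd_pow_iff (a := (PowerSeries.X : PowerSeries k)) PowerSeries.X_ne_zero PowerSeries.X_irreducible.not_isUnit).1 hbS.dvd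
  have h2 := (pow_dvd_pow_iff (a := (PowerSeries.X : PowerSeries k)) PowerSeries.X_ne_zero PowerSeries.X_irreducible.not_isUnit).1 hbS.symm.dvd
  omega

end Groth.L14.CrimpDouble
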