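import Mathlib.RingTheory.PowerSeries.Expand
import Mathlib.RingTheory.PowerSeries.Order
import Mathlib.RingTheory.PowerSeries.Inverse

/-!
An order computation in `k⟦x⟧` over `k⟦x ^ p⟧`.
-/

set_option autoImplicit false
universe u

namespace Groth.L14.Crimp

open PowerSeries

variable {k : Type u} [Field k]

theorem expand_add_ne {p m n : ℕ} (hp : p ≠ 0) (hn : 2 * m < n) (hne : ∀ i j : ℕ, p * i ≠ p * j + m)
    (hb : ∀ j : ℕ, p * j + m ≠ 2 * m) (a b g s : PowerSeries k)
    (ha : a = 0 ∨ ∀ j : ℕ, p * j ≠ 2 * m) (hg : g.order = 0) :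
    expand p hp a + expand p hp b * (X ^ m * g) + X ^ n * s ≠ (X ^ m * g) * (X ^ m * g) := by
  intro h
  have h2 : ((X ^ m * g) * (X ^ m * g)).order = ((2 * m : ℕ) : ℕ∞) := by
    simp [order_mul, order_X_pow, hg, two_mul]
  have hs : ((2 * m : ℕ) : ℕ∞) < (X ^ n * s).order := by
    rw [order_mul, order_X_pow]
    exact lt_of_lt_of_le (by exact_mod_cast hn) (le_self_add)
  have hu : (expand p hp a + expand p hp b * (X ^ m * g)).order = ((2 * m : ℕ) : ℕ∞) := by
    have e : expand p hp a + expand p hp b * (X ^ m * g) = (X ^ m * g) * (X ^ m * g) + -(X ^ n * s) := by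
      rw [← h]; abel
    have hneg : (-(X ^ n * s)).order = (X ^ n * s).order := by simp
    rw [e, order_add_of_order_ne _ _ (by rw [hneg, h2]; exact hs.ne), hneg, h2]
    exact min_eq_left hs.le
  by_cases ha0 : a = 0 <;> by_cases hb0 : b = 0
  · simp only [ha0, hb0, map_zero, zero_mul, add_zero, order_zero] at hu
    exact (ENat.coe_ne_top _) hu.symm
  · obtain ⟨j, hj⟩ := WithTop.ne_top_iff_exists.1 (mt order_eq_top.1 hb0)
    simp only [ha0, map_zero, zero_add, order_mul, order_expand, order_X_pow, hg, add_zero, ← hj,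
      nsmul_eq_mul] at hu
    exact hb j (ENat.natCast_inj.1 (by push_cast; exact hu))
  · obtain ⟨j, hj⟩ := WithTop.ne_top_iff_exists.1 (mt order_eq_top.1 ha0)
    simp only [hb0, map_zero, zero_mul, add_zero, order_expand, ← hj, nsmul_eq_mul] at hu
    exact (ha.resolve_left ha0) j (ENat.natCast_inj.1 (by push_cast; exact hu))
  · obtain ⟨i, hi⟩ := WithTop.ne_top_iff_exists.1 (mt order_eq_top.1 ha0)
    obtain ⟨j, hj⟩ := WithTop.ne_top_iff_exists.1 (mt order_eq_top.1 hb0)
    have o1 : (expand p hp a).order = ((p * i : ℕ) : ℕ∞) := by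
      rw [order_expand, ← hi, nsmul_eq_mul]; rfl
    have o2 : (expand p hp b * (X ^ m * g)).order = ((p * j + m : ℕ) : ℕ∞) := by
      rw [order_mul, order_mul, order_expand, order_X_pow, hg, ← hj, nsmul_eq_mul, add_zero]; rfl
    have hne' : (expand p hp a).order ≠ (expand p hp b * (X ^ m * g)).order := by
      rw [o1, o2]; exact fun h => hne i j (ENat.natCast_inj.1 h)
    rw [order_add_of_order_ne _ _ hne', o1, o2] at hu
    rcases min_choice (((p * i : ℕ) : ℕ∞)) ((p * j + m : ℕ) : ℕ∞) with h' | h'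
    · exact (ha.resolve_left ha0) i (ENat.natCast_inj.1 (h'.symm.trans hu))
    · exact hb j (ENat.natCast_inj.1 (h'.symm.trans hu))

end Groth.L14.Crimp
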