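import Mathlib.RingTheory.PowerSeries.Inverse
import Mathlib.LinearAlgebra.FiniteDimensional.Lemmas
import Mathlib.LinearAlgebra.Dimension.Constructions
import Mathlib.RingTheory.Nakayama
import Mathlib.Tactic

/-!
Submodules of a free module of rank three with two elementary divisors.
-/

set_option autoImplicit false
universe u

open PowerSeries

namespace Groth.L14.Crimp

variable {k : Type u} [Field k]

/-- The reduction at `t = 0`. -/
noncomputable def red : (Fin 3 → PowerSeries k) →+ (Fin 3 → k) where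
  toFun v i := constantCoeff (v i)
  map_zero' := funext fun i => map_zero _
  map_add' v w := funext fun i => map_add _ _ _

theorem red_smul (c : PowerSeries k) (v : Fin 3 → PowerSeries k) : red (c • v) = constantCoeff c • red v := by
  funext i; simp [red]

theorem mem_tS {v : Fin 3 → PowerSeries k} :
    v ∈ Ideal.span {(X : PowerSeries k)} • (⊤ : Submodule (PowerSeries k) (Fin 3 → PowerSeries k)) ↔ red v = 0 := by
  rw [Submodule.ideal_span_singleton_smul, ← SetLike.mem_coe, Submodule.coe_pointwise_smul, Set.mem_smul_set]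
  constructor
  · rintro ⟨w, -, rfl⟩; rw [red_smul, constantCoeff_X, zero_smul]
  · intro h
    choose w hw using fun i => (X_dvd_iff.2 (congrFun h i) : (X : PowerSeries k) ∣ v i)
    exact ⟨w, trivial, funext fun i => (hw i).symm⟩

theorem span_eq_top_of_red {v : Fin 3 → (Fin 3 → PowerSeries k)}
    (h : LinearIndependent k (fun i => red (v i))) : Submodule.span (PowerSeries k) (Set.range v) = ⊤ := by
  classical
  have hs : Submodule.span k (Set.range fun i => red (v i)) = ⊤ :=
    h.span_eq_top_of_card_eq_finrank (by simp)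
  refine eq_top_iff.2 (Submodule.le_of_le_smul_of_le_jacobson_bot (I := Ideal.span {(X : PowerSeries k)})
    Module.Finite.fg_top ?_ fun x _ => ?_)
  · rw [← PowerSeries.maximalIdeal_eq_span_X]
    exact IsLocalRing.maximalIdeal_le_jacobson _
  · obtain ⟨a, ha⟩ := (Submodule.mem_span_range_iff_exists_fun k).1 (hs.ge (Submodule.mem_top (x := red x)))
    refine Submodule.mem_sup.2 ⟨∑ i, C (a i) • v i,
      Submodule.sum_mem _ fun i _ => Submodule.smul_mem _ _ (Submodule.subset_span ⟨i, rfl⟩),
      x - ∑ i, C (a i) • v i, mem_tS.2 ?_, add_sub_cancel _ _⟩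
    rw [map_sub, map_sum, Finset.sum_congr rfl fun i _ => red_smul (C (a i)) (v i)]
    simp only [constantCoeff_C, ha, sub_self]

theorem smul_mk_quot (I : Ideal (PowerSeries k)) (c z : PowerSeries k) :
    c • (Ideal.Quotient.mk I z) = Ideal.Quotient.mk I (c * z) := rfl

theorem smul_one_quot (I : Ideal (PowerSeries k)) (c : PowerSeries k) :
    c • (1 : PowerSeries k ⧸ I) = Ideal.Quotient.mk I c := by
  rw [← map_one (Ideal.Quotient.mk I), smul_mk_quot, mul_one]

theorem triple (m n : ℕ) (hmn : m ≤ n) (S : Submodule (PowerSeries k) (Fin 3 → PowerSeries k))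
    (h1 : (1 : Fin 3 → PowerSeries k) ∈ S)
    (e : ((Fin 3 → PowerSeries k) ⧸ S) ≃ₗ[PowerSeries k]
      ((PowerSeries k ⧸ Ideal.span {(X : PowerSeries k) ^ m}) × (PowerSeries k ⧸ Ideal.span {(X : PowerSeries k) ^ n}))) :
    Ideal.span {(X : PowerSeries k) ^ n} • (⊤ : Submodule (PowerSeries k) (Fin 3 → PowerSeries k)) ≤ S ∧
    ∃ f : Fin 3 → PowerSeries k,
      f ∉ Submodule.span (PowerSeries k) {(1 : Fin 3 → PowerSeries k)} ⊔
        Ideal.span {(X : PowerSeries k)} • (⊤ : Submodule (PowerSeries k) (Fin 3 → PowerSeries k)) ∧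
      S = Submodule.span (PowerSeries k) {(1 : Fin 3 → PowerSeries k), (X : PowerSeries k) ^ m • f} ⊔
        Ideal.span {(X : PowerSeries k) ^ n} • (⊤ : Submodule (PowerSeries k) (Fin 3 → PowerSeries k)) := by
  classical
  set π := e.toLinearMap.comp S.mkQ with hπdef
  have hker : ∀ x, x ∈ S ↔ π x = 0 := fun x => by
    rw [hπdef, LinearMap.comp_apply, LinearEquiv.coe_coe, LinearEquiv.map_eq_zero_iff, Submodule.mkQ_apply,
      Submodule.Quotient.mk_eq_zero]
  have hsurj : Function.Surjective π := e.surjective.comp S.mkQ_surjective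
  have hkill : ∀ (c : PowerSeries k), (X : PowerSeries k) ^ n ∣ c → ∀ z : (PowerSeries k ⧸ Ideal.span {(X : PowerSeries k) ^ m}) × (PowerSeries k ⧸ Ideal.span {(X : PowerSeries k) ^ n}), c • z = 0 := by
    intro c hc z
    obtain ⟨z1, z2⟩ := z
    obtain ⟨z1, rfl⟩ := Ideal.Quotient.mk_surjective z1
    obtain ⟨z2, rfl⟩ := Ideal.Quotient.mk_surjective z2
    refine Prod.ext ?_ ?_ <;> simp only [Prod.smul_mk, smul_mk_quot, Prod.fst_zero, Prod.snd_zero, Ideal.Quotient.eq_zero_iff_dvd]
    · exact dvd_mul_of_dvd_left ((pow_dvd_pow _ hmn).trans hc) _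
    · exact dvd_mul_of_dvd_left hc _
  have hle : Ideal.span {(X : PowerSeries k) ^ n} • (⊤ : Submodule (PowerSeries k) (Fin 3 → PowerSeries k)) ≤ S :=
    Submodule.smul_le.2 fun c hc x _ => (hker _).2 (by
      rw [map_smul]; exact hkill c (Ideal.mem_span_singleton.1 hc) _)
  refine ⟨hle, ?_⟩
  have key : ∀ f b : Fin 3 → PowerSeries k, π f = (1, 0) → π b = (0, 1) →
      LinearIndependent k (fun i => red ((![1, f, b] : Fin 3 → (Fin 3 → PowerSeries k)) i)) →
      f ∉ Submodule.span (PowerSeries k) {(1 : Fin 3 → PowerSeries k)} ⊔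
        Ideal.span {(X : PowerSeries k)} • (⊤ : Submodule (PowerSeries k) (Fin 3 → PowerSeries k)) ∧
      S = Submodule.span (PowerSeries k) {(1 : Fin 3 → PowerSeries k), (X : PowerSeries k) ^ m • f} ⊔
        Ideal.span {(X : PowerSeries k) ^ n} • (⊤ : Submodule (PowerSeries k) (Fin 3 → PowerSeries k)) := by
    intro f b hf hb hli
    refine ⟨fun hmem => ?_, le_antisymm (fun x hx => ?_) (sup_le (Submodule.span_le.2 ?_) hle)⟩
    · obtain ⟨y, hy, z, hz, hyz⟩ := Submodule.mem_sup.1 hmem
      obtain ⟨c, rfl⟩ := Submodule.mem_span_singleton.1 hy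
      have h := congrArg red hyz
      rw [map_add, mem_tS.1 hz, add_zero, red_smul] at h
      have := Fintype.linearIndependent_iff.1 hli ![constantCoeff c, -1, 0] (by
        simp only [Fin.sum_univ_three, Matrix.cons_val_zero, Matrix.cons_val_one, Matrix.cons_val_two,
          Matrix.tail_cons, Matrix.head_cons, h]
        simp) 1
      simp at this
    · have hx' : x ∈ Submodule.span (PowerSeries k) (Set.range (![1, f, b] : Fin 3 → (Fin 3 → PowerSeries k))) :=
        (span_eq_top_of_red hli).ge Submodule.mem_top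
      obtain ⟨a, ha⟩ := (Submodule.mem_span_range_iff_exists_fun (PowerSeries k)).1 hx'
      simp only [Fin.sum_univ_three, Matrix.cons_val_zero, Matrix.cons_val_one, Matrix.cons_val_two,
        Matrix.tail_cons, Matrix.head_cons] at ha
      have hp := (hker x).1 hx
      rw [← ha, map_add, map_add, map_smul, map_smul, map_smul, hf, hb, (hker _).1 h1, smul_zero, zero_add] at hp
      obtain ⟨hp1, hp2⟩ := Prod.ext_iff.1 hp
      simp [smul_one_quot, Ideal.Quotient.eq_zero_iff_dvd] at hp1 hp2
      obtain ⟨a1, ha1⟩ := hp1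
      refine Submodule.mem_sup.2 ⟨a 0 • 1 + a 1 • f, ?_, a 2 • b, ?_, ha⟩
      · refine add_mem (Submodule.smul_mem _ _ (Submodule.subset_span (Set.mem_insert _ _))) ?_
        rw [ha1, mul_comm, mul_smul]
        exact Submodule.smul_mem _ _ (Submodule.subset_span (Set.mem_insert_of_mem _ rfl))
      · exact Submodule.smul_mem_smul (Ideal.mem_span_singleton.2 hp2) Submodule.mem_top
    · rintro x (rfl | rfl)
      · exact h1
      · refine (hker _).2 ?_
        rw [map_smul, hf, Prod.smul_mk, smul_zero, smul_one_quot,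
          Ideal.Quotient.eq_zero_iff_mem.2 (Ideal.mem_span_singleton_self _)]
        rfl
  obtain ⟨f₀, hf₀⟩ := hsurj (1, 0)
  obtain ⟨b₀, hb₀⟩ := hsurj (0, 1)
  have hone : red (1 : Fin 3 → PowerSeries k) ≠ 0 := fun h => one_ne_zero (α := k) (by simpa [red] using congrFun h 0)
  -- coefficients of a relation modulo `t` vanish as long as the divisor is positive
  have hdep : ∀ (l : Fin 3 → k) (f b : Fin 3 → PowerSeries k), π f = (1, 0) → π b = (0, 1) →
      l 0 • red 1 + l 1 • red f + l 2 • red b = 0 → (0 < m → l 1 = 0) ∧ (0 < n → l 2 = 0) := by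
    intro l f b hf hb hl
    set v := C (l 0) • (1 : Fin 3 → PowerSeries k) + C (l 1) • f + C (l 2) • b with hv
    have hv0 : red v = 0 := by
      rw [hv, map_add, map_add, red_smul, red_smul, red_smul]; simpa using hl
    have hpv : π v = (Ideal.Quotient.mk _ (C (l 1)), Ideal.Quotient.mk _ (C (l 2))) := by
      rw [hv, map_add, map_add, map_smul, map_smul, map_smul, hf, hb, (hker _).1 h1]
      simp [smul_one_quot]
    choose w hw using fun i => (X_dvd_iff.2 (congrFun hv0 i) : (X : PowerSeries k) ∣ v i)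
    have hvw : v = (X : PowerSeries k) • w := funext hw
    obtain ⟨u1, hu1⟩ := Ideal.Quotient.mk_surjective (π w).1
    obtain ⟨u2, hu2⟩ := Ideal.Quotient.mk_surjective (π w).2
    rw [hvw, map_smul] at hpv
    obtain ⟨e1, e2⟩ := Prod.ext_iff.1 hpv
    rw [Prod.smul_fst, ← hu1, smul_mk_quot, Ideal.Quotient.eq,
      Ideal.mem_span_singleton] at e1
    rw [Prod.smul_snd, ← hu2, smul_mk_quot, Ideal.Quotient.eq,
      Ideal.mem_span_singleton] at e2
    refine ⟨fun hm => ?_, fun hn => ?_⟩
    · have := X_dvd_iff.1 ((dvd_pow_self _ hm.ne').trans e1)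
      simpa using this
    · have := X_dvd_iff.1 ((dvd_pow_self _ hn.ne').trans e2)
      simpa using this
  have hli : ∀ f b : Fin 3 → PowerSeries k, (∀ l : Fin 3 → k, l 0 • red 1 + l 1 • red f + l 2 • red b = 0 →
      l 1 = 0 ∧ l 2 = 0) → LinearIndependent k (fun i => red ((![1, f, b] : Fin 3 → (Fin 3 → PowerSeries k)) i)) := by
    intro f b h
    refine Fintype.linearIndependent_iff.2 fun l hl => ?_
    simp only [Fin.sum_univ_three, Matrix.cons_val_zero, Matrix.cons_val_one, Matrix.cons_val_two,
      Matrix.tail_cons, Matrix.head_cons] at hl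
    obtain ⟨h1', h2'⟩ := h l hl
    rw [h1', h2', zero_smul, zero_smul, add_zero, add_zero] at hl
    have h0' := (smul_eq_zero.1 hl).resolve_right hone
    intro i
    fin_cases i <;> assumption
  have hsub : ∀ j : ℕ, j = 0 → Subsingleton (PowerSeries k ⧸ Ideal.span {(X : PowerSeries k) ^ j}) := fun j hj =>
    Ideal.Quotient.subsingleton_iff.2 (by rw [hj, pow_zero, Ideal.span_singleton_one])
  rcases Nat.eq_zero_or_pos n with rfl | hn
  · obtain rfl : m = 0 := Nat.le_zero.1 hmn
    haveI := hsub 0 rfl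
    exact ⟨_, key (Pi.single 0 1) (Pi.single 1 1) (Subsingleton.elim _ _) (Subsingleton.elim _ _) (hli _ _ fun l hl => by
      have h0 := congrFun hl 0
      have h1' := congrFun hl 1
      have h2 := congrFun hl 2
      simp [red, Pi.single_apply] at h0 h1' h2
      constructor
      · simpa [h2] using h0
      · simpa [h2] using h1')⟩
  rcases Nat.eq_zero_or_pos m with hm | hm
  · haveI := hsub m hm
    obtain ⟨y, hy⟩ : ∃ y : Fin 3 → k, y ∉ Submodule.span k (Set.range ![red (1 : Fin 3 → PowerSeries k), red b₀]) := by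
      by_contra hc
      push Not at hc
      have h := finrank_range_le_card (R := k) (![red (1 : Fin 3 → PowerSeries k), red b₀])
      rw [Set.finrank, show Submodule.span k (Set.range ![red (1 : Fin 3 → PowerSeries k), red b₀]) = ⊤ from
        eq_top_iff.2 fun y _ => hc y, finrank_top, Module.finrank_fin_fun, Fintype.card_fin] at h
      omega
    obtain ⟨c, hc⟩ := Ideal.Quotient.mk_surjective (π fun i => C (y i)).2
    let f : Fin 3 → PowerSeries k := (fun i => C (y i)) - c • b₀
    have hf : π f = (1, 0) := Prod.ext (Subsingleton.elim _ _) (by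
      simp [f, map_sub, map_smul, hb₀, ← hc, smul_one_quot])
    refine ⟨_, key f b₀ hf hb₀ (hli f b₀ fun l hl => ?_)⟩
    have h2 := (hdep l f b₀ hf hb₀ hl).2 hn
    refine ⟨?_, h2⟩
    by_contra hne
    apply hy
    have hred : red f = y - constantCoeff c • red b₀ := by
      rw [show f = (fun i => C (y i)) - c • b₀ from rfl, map_sub, red_smul]
      congr 1
    rw [hred, h2, zero_smul, add_zero, smul_sub] at hl
    rw [Submodule.mem_span_range_iff_exists_fun]
    refine ⟨![-(l 1)⁻¹ * l 0, constantCoeff c], ?_⟩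
    simp only [Fin.sum_univ_two, Matrix.cons_val_zero, Matrix.cons_val_one]
    funext i
    have hi := congrFun hl i
    simp only [Pi.add_apply, Pi.sub_apply, Pi.smul_apply, smul_eq_mul, Pi.zero_apply] at hi ⊢
    field_simp
    linear_combination -hi
  · exact ⟨_, key f₀ b₀ hf₀ hb₀ (hli _ _ fun l hl => ⟨(hdep l f₀ b₀ hf₀ hb₀ hl).1 hm, (hdep l f₀ b₀ hf₀ hb₀ hl).2 hn⟩)⟩

end Groth.L14.Crimp
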